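import Groth.Agent.Lib.ProjDim.Tensor
import Groth.Prelude.Def_CohB1
import Mathlib.RingTheory.GradedAlgebra.Radical

/-!
# Homogeneous primes of the polynomial ring over a field
-/

set_option autoImplicit false

universe u

namespace Groth.Agent.Lib.ProjDim.Graded

open MvPolynomial Groth.Agent.Lib.Dim.Basic

variable {k : Type u} [Field k] {n : ℕ}

local notation "S" => MvPolynomial (Fin (n + 1)) k
local notation "𝒢" => CohB1.polyGrading n k

/-- The maximal ideal of the origin. -/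
noncomputable def irr (n : ℕ) (k : Type u) [Field k] : Ideal (MvPolynomial (Fin (n + 1)) k) :=
  RingHom.ker (constantCoeff (σ := Fin (n + 1)) (R := k))

theorem mem_irr {f : S} : f ∈ irr n k ↔ coeff 0 f = 0 := Iff.rfl

theorem irr_isMaximal : (irr n k).IsMaximal :=
  RingHom.ker_isMaximal_of_surjective _ fun c => ⟨C c, constantCoeff_C _ c⟩

theorem dimQ_irr : dimQ k (irr n k) = 0 :=
  have := irr_isMaximal (n := n) (k := k)
  dimQ_eq_zero_of_isMaximal k _

theorem dimQ_bot_poly : dimQ k (⊥ : Ideal (MvPolynomial (Fin (n + 1)) k)) = n + 1 := by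
  rw [dimQ_bot]
  have h := ringKrullDim_eq_trdegNat k (MvPolynomial (Fin (n + 1)) k)
  rw [ringKrullDim_mvPolynomial, Nat.card_fin] at h
  exact_mod_cast h.symm

theorem dimQ_le (P : Ideal S) [P.IsPrime] : dimQ k P ≤ n + 1 := by
  have := dimQ_anti k (A := S) (P := ⊥) (Q := P) bot_le
  rwa [dimQ_bot_poly] at this

theorem decompose_apply (f : S) (i : ℕ) :
    ((DirectSum.decompose 𝒢 f i : 𝒢 i) : S) = homogeneousComponent i f :=
  MvPolynomial.decomposition.decompose'_apply f i

theorem component_mem {I : Ideal S} (hI : I.IsHomogeneous 𝒢) {f : S} (hf : f ∈ I) (i : ℕ) :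
    homogeneousComponent i f ∈ I := by
  rw [← decompose_apply]
  exact hI i hf

theorem le_irr {I : Ideal S} (hI : I.IsHomogeneous 𝒢) (hne : I ≠ ⊤) : I ≤ irr n k := by
  intro f hf
  by_contra h
  apply hne
  have h0 := component_mem hI hf 0
  rw [homogeneousComponent_zero] at h0
  exact Ideal.eq_top_of_isUnit_mem _ h0 (IsUnit.map C (isUnit_iff_ne_zero.2 h))

theorem mem_irr_of_isHomogeneous {f : S} {d : ℕ} (hf : f.IsHomogeneous d) (hd : 0 < d) :
    f ∈ irr n k := by
  rw [mem_irr]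
  refine hf.coeff_eq_zero ?_
  simp only [map_zero]
  exact hd.ne

theorem span_isHomogeneous {s : Set S} (h : ∀ f ∈ s, ∃ d, f.IsHomogeneous d) :
    (Ideal.span s).IsHomogeneous 𝒢 := by
  refine Ideal.homogeneous_span 𝒢 _ fun f hf => ?_
  obtain ⟨d, hd⟩ := h f hf
  exact ⟨d, (mem_homogeneousSubmodule d f).2 hd⟩

/-- Minimal primes of homogeneous ideals are homogeneous. -/
theorem minimalPrimes_isHomogeneous {I P : Ideal S} (hI : I.IsHomogeneous 𝒢)
    (hP : P ∈ I.minimalPrimes) : P.IsHomogeneous 𝒢 := by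
  have hPp : P.IsPrime := hP.1.1
  have h1 : I ≤ (P.homogeneousCore 𝒢).toIdeal := by
    rw [← hI.toIdeal_homogeneousCore_eq_self]
    exact Ideal.homogeneousCore_mono 𝒢 hP.1.2
  have h2 : P ≤ (P.homogeneousCore 𝒢).toIdeal :=
    hP.2 ⟨hPp.homogeneousCore, h1⟩ (Ideal.toIdeal_homogeneousCore_le 𝒢 P)
  rw [le_antisymm h2 (Ideal.toIdeal_homogeneousCore_le 𝒢 P)]
  exact (P.homogeneousCore 𝒢).isHomogeneous

/-- A homogeneous element of an ideal outside a smaller one. -/
theorem exists_homogeneous_not_mem {I : Ideal S} {P : Ideal S} (hI : I.IsHomogeneous 𝒢)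
    (h : ¬ I ≤ P) : ∃ d, ∃ f : S, f.IsHomogeneous d ∧ f ∈ I ∧ f ∉ P := by
  obtain ⟨f, hfI, hfP⟩ := SetLike.not_le_iff_exists.1 h
  by_contra hc
  simp only [not_exists, not_and, not_not] at hc
  refine hfP ?_
  rw [← sum_homogeneousComponent f]
  exact Ideal.sum_mem _ fun i _ =>
    hc i _ (homogeneousComponent_isHomogeneous i f) (component_mem hI hfI i)

/-- Between two homogeneous primes there is one of dimension one less. -/
theorem exists_step {p q : Ideal S} [p.IsPrime] [q.IsPrime] (hp : p.IsHomogeneous 𝒢)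
    (hq : q.IsHomogeneous 𝒢) (hlt : p < q) :
    ∃ p' : Ideal S, p'.IsPrime ∧ p'.IsHomogeneous 𝒢 ∧ p < p' ∧ p' ≤ q ∧
      dimQ k p' + 1 = dimQ k p := by
  obtain ⟨d, f, hf, hfq, hfp⟩ := exists_homogeneous_not_mem hq hlt.not_ge
  have hle : p ⊔ Ideal.span {f} ≤ q := sup_le hlt.le (by rwa [Ideal.span_singleton_le_iff_mem])
  obtain ⟨P, hP, hPq⟩ := Ideal.exists_minimalPrimes_le hle
  have hPp : P.IsPrime := hP.1.1
  have hpP : p < P := lt_of_le_of_ne (le_sup_left.trans hP.1.2) fun e =>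
    hfp (e ▸ hP.1.2 (Ideal.mem_sup_right (Ideal.mem_span_singleton_self f)))
  refine ⟨P, hPp, minimalPrimes_isHomogeneous (hp.sup (span_isHomogeneous fun x hx => ?_)) hP,
    hpP, hPq, ?_⟩
  · rw [Set.mem_singleton_iff.1 hx]; exact ⟨d, hf⟩
  · have h1 := Tensor.dimQ_le_add_of_minimalPrimes (k := k) p P {f} (by simpa using hP)
    rw [Finset.card_singleton] at h1
    have h2 := dimQ_lt_of_lt k hpP
    omega

/-- A chain of homogeneous primes from `p` to `q` of maximal length. -/
theorem exists_chain {p q : Ideal S} [p.IsPrime] [q.IsPrime] (hp : p.IsHomogeneous 𝒢)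
    (hq : q.IsHomogeneous 𝒢) (hle : p ≤ q) :
    ∃ c : ℕ → Ideal S, c 0 = p ∧ c (dimQ k p - dimQ k q) = q ∧
      (∀ i ≤ dimQ k p - dimQ k q, (c i).IsPrime ∧ (c i).IsHomogeneous 𝒢 ∧
        p ≤ c i ∧ c i ≤ q ∧ dimQ k (c i) + i = dimQ k p) ∧
      ∀ i < dimQ k p - dimQ k q, c i < c (i + 1) := by
  obtain ⟨e, he⟩ : ∃ e, dimQ k p = dimQ k q + e :=
    ⟨_, (Nat.add_sub_of_le (dimQ_anti k hle)).symm⟩
  induction e generalizing p with
  | zero =>
    have hpq : p = q := by
      by_contra hne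
      have := dimQ_lt_of_lt k (lt_of_le_of_ne hle hne)
      omega
    subst hpq
    refine ⟨fun _ => p, rfl, rfl, fun i hi => ⟨inferInstance, hp, le_rfl, le_rfl, ?_⟩, ?_⟩
    · have : i = 0 := by omega
      subst this; simp
    · intro i hi; omega
  | succ e ih =>
    have hlt : p < q := lt_of_le_of_ne hle fun h => by subst h; omega
    obtain ⟨p', hp'p, hp'h, hpp', hp'q, hd⟩ := exists_step hp hq hlt
    obtain ⟨c, hc0, hcq, hc, hcs⟩ := ih (p := p') hp'h hp'q (by omega)
    have hlen : dimQ k p - dimQ k q = (dimQ k p' - dimQ k q) + 1 := by omega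
    refine ⟨fun i => Nat.casesOn i p fun j => c j, rfl, ?_, ?_, ?_⟩
    · rw [hlen]; exact hcq
    · intro i hi
      cases i with
      | zero => exact ⟨inferInstance, hp, le_rfl, hle, rfl⟩
      | succ j =>
        obtain ⟨h1, h2, h3, h4, h5⟩ := hc j (by omega)
        exact ⟨h1, h2, hpp'.le.trans h3, h4, by show dimQ k (c j) + (j + 1) = _; omega⟩
    · intro i hi
      cases i with
      | zero => show p < c 0; rw [hc0]; exact hpp'
      | succ j => exact hcs j (by omega)

/-- Minimal primes over a homogeneous ideal of prime plus `r` equations: existence and dimension. -/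
theorem exists_minimalPrime_le_irr {I : Ideal S} (hne : I ≤ irr n k) :
    ∃ P ∈ I.minimalPrimes, P ≤ irr n k :=
  have := (irr_isMaximal (n := n) (k := k)).isPrime
  Ideal.exists_minimalPrimes_le hne

/-- Factors of homogeneous polynomials generate homogeneous ideals. -/
theorem span_isHomogeneous_of_dvd {h f : S} {d : ℕ} (hh : Irreducible h) (hf : f.IsHomogeneous d)
    (hf0 : f ≠ 0) (hdvd : h ∣ f) : (Ideal.span {h}).IsHomogeneous 𝒢 := by
  have hpr : Prime h := UniqueFactorizationMonoid.irreducible_iff_prime.1 hh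
  have hP : (Ideal.span {h} : Ideal S).IsPrime := (Ideal.span_singleton_prime hpr.ne_zero).2 hpr
  have hfc : f ∈ ((Ideal.span {h}).homogeneousCore 𝒢).toIdeal :=
    Ideal.mem_homogeneousCore_of_homogeneous_of_mem ⟨d, (mem_homogeneousSubmodule d f).2 hf⟩
      (Ideal.mem_span_singleton.2 hdvd)
  have hcore := hP.homogeneousCore (𝒜 := 𝒢)
  have hle := Ideal.toIdeal_homogeneousCore_le 𝒢 (Ideal.span {h})
  have heq : ((Ideal.span {h}).homogeneousCore 𝒢).toIdeal = Ideal.span {h} := by
    obtain ⟨g, hg, hgp⟩ := hcore.exists_mem_prime_of_ne_bot fun e => hf0 (by rwa [e] at hfc)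
    refine le_antisymm hle ?_
    rw [Ideal.span_singleton_le_iff_mem]
    exact Ideal.mem_of_dvd _
      ((hpr.associated_of_dvd hgp (Ideal.mem_span_singleton.1 (hle hg))).symm.dvd) hg
  rw [← heq]
  exact Ideal.homogeneousCore 𝒢 _ |>.isHomogeneous

end Groth.Agent.Lib.ProjDim.Graded
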