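import Groth.Agent.Lib.Dim.FieldExt
import Mathlib.RingTheory.Ideal.KrullsHeightTheorem

/-!
# The affine dimension theorem for intersections

For a finite type algebra over a field: cutting by `r` equations drops `dimQ` by at most `r`;
minimal primes of a tensor product of two domains have the expected dimension; minimal primes of
`p + q` in a polynomial ring in `N` variables have `dimQ ≥ dimQ p + dimQ q - N`.
-/

set_option autoImplicit false

universe u

open scoped TensorProduct

namespace Groth.Agent.Lib.ProjDim.Tensor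

open Groth.Agent.Lib.Dim.Basic Groth.Agent.Lib.Dim.FieldExt

variable {k : Type u} [Field k]

/-- Cutting a prime by `r` equations drops the dimension by at most `r`. -/
theorem dimQ_le_add_of_minimalPrimes {A : Type u} [CommRing A] [Algebra k A]
    [Algebra.FiniteType k A] (p P : Ideal A) [p.IsPrime] (S : Finset A)
    (hP : P ∈ (p ⊔ Ideal.span (S : Set A)).minimalPrimes) :
    dimQ k p ≤ dimQ k P + S.card := by
  classical
  have : IsNoetherianRing A := Algebra.FiniteType.isNoetherianRing k A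
  have hPp : P.IsPrime := hP.1.1
  have hle : p ≤ P := le_sup_left.trans hP.1.2
  set π := Ideal.Quotient.mk p with hπ
  have hker : RingHom.ker π ≤ P := by rw [hπ, Ideal.mk_ker]; exact hle
  have : (P.map π).IsPrime := Ideal.map_isPrime_of_surjective Ideal.Quotient.mk_surjective hker
  have hcomap : (P.map π).comap π = P := by
    rw [Ideal.comap_map_of_surjective _ Ideal.Quotient.mk_surjective, ← RingHom.ker_eq_comap_bot]
    exact sup_eq_left.2 hker
  have hmin : P.map π ∈ (Ideal.span ((S.image π : Finset (A ⧸ p)) : Set (A ⧸ p))).minimalPrimes := by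
    rw [Finset.coe_image, ← Ideal.map_span]
    refine ⟨⟨inferInstance, Ideal.map_mono (le_sup_right.trans hP.1.2)⟩, fun q ⟨hq, hSq⟩ hqP => ?_⟩
    have hq' : p ⊔ Ideal.span (S : Set A) ≤ q.comap π :=
      sup_le (fun x hx => by simp [π, Ideal.Quotient.eq_zero_iff_mem.2 hx])
        (Ideal.map_le_iff_le_comap.1 hSq)
    have h1 : q.comap π ≤ P := (Ideal.comap_mono hqP).trans_eq hcomap
    have h2 : P ≤ q.comap π := hP.2 ⟨hq.comap π, hq'⟩ h1
    exact Ideal.map_le_iff_le_comap.2 h2
  have hh : (P.map π).height ≤ ((S.image π).card : ℕ∞) := by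
    refine (Ideal.height_le_spanRank_toENat_of_mem_minimalPrimes _ _ hmin).trans ?_
    refine le_trans (OrderHomClass.mono Cardinal.toENat (Submodule.spanRank_span_le_card _)) ?_
    simp
  have h3 := height_add_dimQ k (P.map π)
  have e : dimQ k (P.map π) = dimQ k P := by
    have h4 : ringKrullDim ((A ⧸ p) ⧸ P.map π) = ringKrullDim (A ⧸ P) :=
      ringKrullDim_eq_of_ringEquiv (DoubleQuot.quotQuotEquivQuotOfLE hle)
    rw [ringKrullDim_quotient_prime k, ringKrullDim_quotient_prime k] at h4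
    exact_mod_cast h4
  rw [e] at h3
  have h5 : ((trdegNat k (A ⧸ p) : ℕ) : ℕ∞) ≤ ((S.card + dimQ k P : ℕ) : ℕ∞) := by
    rw [← h3, Nat.cast_add]
    exact add_le_add (hh.trans (by exact_mod_cast Finset.card_image_le)) le_rfl
  have h6 : dimQ k p ≤ S.card + dimQ k P := by exact_mod_cast h5
  omega

/-- Detecting zero in a tensor product through coordinates. -/
theorem eq_zero_of_map_proj {M N P Q : Type u} [AddCommGroup M] [Module k M] [AddCommGroup N]
    [Module k N] [AddCommGroup P] [Module k P] [AddCommGroup Q] [Module k Q] {a b : ℕ}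
    (f : M →ₗ[k] Fin a → P) (hf : Function.Injective f)
    (g : N →ₗ[k] Fin b → Q) (hg : Function.Injective g) (y : M ⊗[k] N)
    (h : ∀ i j, TensorProduct.map ((LinearMap.proj i).comp f) ((LinearMap.proj j).comp g) y = 0) :
    y = 0 := by
  have hinj : Function.Injective (TensorProduct.map f g) := by
    rw [← LinearMap.rTensor_comp_lTensor, LinearMap.coe_comp]
    exact (Module.Flat.rTensor_preserves_injective_linearMap _ hf).comp
      (Module.Flat.lTensor_preserves_injective_linearMap _ hg)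
  let e₁ : (Fin a → P) ⊗[k] (Fin b → Q) ≃ₗ[k] Fin b → ((Fin a → P) ⊗[k] Q) :=
    TensorProduct.piRight k k _ _
  let e₂ : (Fin a → P) ⊗[k] Q ≃ₗ[k] Fin a → (P ⊗[k] Q) :=
    (TensorProduct.comm k _ _).trans ((TensorProduct.piRight k k _ _).trans
      (LinearEquiv.piCongrRight fun _ => TensorProduct.comm k _ _))
  have key : ∀ w i j, e₂ (e₁ (TensorProduct.map f g w) j) i =
      TensorProduct.map ((LinearMap.proj i).comp f) ((LinearMap.proj j).comp g) w := by
    intro w i j
    induction w using TensorProduct.induction_on with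
    | zero => simp
    | add w w' hw hw' => simp only [map_add, Pi.add_apply, hw, hw']
    | tmul e d => simp [e₁, e₂]
  refine hinj ?_
  rw [map_zero]
  apply e₁.injective
  rw [map_zero]
  ext1 j
  apply e₂.injective
  rw [Pi.zero_apply, map_zero]
  ext1 i
  rw [key, h]
  rfl

theorem finiteType_tensor (B₁ B₂ : Type u) [CommRing B₁] [Algebra k B₁]
    [Algebra.FiniteType k B₁] [CommRing B₂] [Algebra k B₂] [Algebra.FiniteType k B₂] :
    Algebra.FiniteType k (B₁ ⊗[k] B₂) :=
  Algebra.FiniteType.trans (S := B₁) inferInstance inferInstance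

/-- Every minimal prime of a tensor product of two finite type domains over a field has the sum of
the dimensions as its dimension. -/
theorem dimQ_minimalPrimes_tensor (B₁ B₂ : Type u) [CommRing B₁] [IsDomain B₁] [Algebra k B₁]
    [Algebra.FiniteType k B₁] [CommRing B₂] [IsDomain B₂] [Algebra k B₂] [Algebra.FiniteType k B₂]
    (Q : Ideal (B₁ ⊗[k] B₂)) (hQ : Q ∈ minimalPrimes (B₁ ⊗[k] B₂)) :
    dimQ k Q = trdegNat k B₁ + trdegNat k B₂ := by
  obtain ⟨s, g₁, hg₁, hf₁, htr₁, -⟩ := exists_noether k B₁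
  obtain ⟨t, g₂, hg₂, hf₂, htr₂, -⟩ := exists_noether k B₂
  have hQp : Q.IsPrime := hQ.1.1
  have := finiteType_tensor (k := k) B₁ B₂
  let G : MvPolynomial (Fin s) k ⊗[k] MvPolynomial (Fin t) k →ₐ[k] B₁ ⊗[k] B₂ :=
    Algebra.TensorProduct.map g₁ g₂
  -- nonzero elements of the polynomial ring act injectively
  have hreg : ∀ a, a ≠ 0 → ∀ y, G a * y = 0 → y = 0 := by
    let := g₁.toRingHom.toAlgebra
    let := g₂.toRingHom.toAlgebra
    have : IsScalarTower k (MvPolynomial (Fin s) k) B₁ :=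
      IsScalarTower.of_algebraMap_eq fun x => (g₁.commutes x).symm
    have : IsScalarTower k (MvPolynomial (Fin t) k) B₂ :=
      IsScalarTower.of_algebraMap_eq fun x => (g₂.commutes x).symm
    have : Module.Finite (MvPolynomial (Fin s) k) B₁ := hf₁
    have : Module.Finite (MvPolynomial (Fin t) k) B₂ := hf₂
    have : FaithfulSMul (MvPolynomial (Fin s) k) B₁ :=
      (faithfulSMul_iff_algebraMap_injective _ _).mpr hg₁
    have : FaithfulSMul (MvPolynomial (Fin t) k) B₂ :=
      (faithfulSMul_iff_algebraMap_injective _ _).mpr hg₂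
    obtain ⟨a₁, f₁, hf₁'⟩ := exists_injective_pi (MvPolynomial (Fin s) k) B₁
    obtain ⟨a₂, f₂, hf₂'⟩ := exists_injective_pi (MvPolynomial (Fin t) k) B₂
    let h₁ : Fin a₁ → (B₁ →ₗ[k] MvPolynomial (Fin s) k) := fun i =>
      ((LinearMap.proj i).comp f₁).restrictScalars k
    let h₂ : Fin a₂ → (B₂ →ₗ[k] MvPolynomial (Fin t) k) := fun i =>
      ((LinearMap.proj i).comp f₂).restrictScalars k
    have hmul : ∀ i j z w, TensorProduct.map (h₁ i) (h₂ j) (G z * w) =
        z * TensorProduct.map (h₁ i) (h₂ j) w := by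
      intro i j z w
      induction z using TensorProduct.induction_on with
      | zero => simp
      | add z z' hz hz' => simp only [map_add, add_mul, hz, hz']
      | tmul p q =>
        induction w using TensorProduct.induction_on with
        | zero => simp
        | add w w' hw hw' => simp only [mul_add, map_add, hw, hw']
        | tmul e d =>
          have e1 : g₁ p * e = p • e := (Algebra.smul_def p e).symm
          have e2 : g₂ q * d = q • d := (Algebra.smul_def q d).symm
          simp [G, h₁, h₂, e1, e2]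
    intro a ha y hy
    have := (MvPolynomial.tensorEquivSum k (Fin s) (Fin t) k).injective.isDomain
      (MvPolynomial.tensorEquivSum k (Fin s) (Fin t) k).toRingHom
    have hz : ∀ i j, TensorProduct.map (h₁ i) (h₂ j) y = 0 := fun i j => by
      have := hmul i j a y
      rw [hy, map_zero] at this
      exact (mul_eq_zero.mp this.symm).resolve_left ha
    exact eq_zero_of_map_proj (f₁.restrictScalars k) hf₁' (f₂.restrictScalars k) hf₂' y hz
  have hker : Q.comap G.toRingHom = ⊥ := by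
    rw [eq_bot_iff]
    intro a ha
    by_contra h0
    refine Set.disjoint_left.mp (Ideal.disjoint_nonZeroDivisors_of_mem_minimalPrimes hQ)
      (show G a ∈ Q from ha) ?_
    rw [SetLike.mem_coe, mem_nonZeroDivisors_iff]
    exact ⟨fun y hy => hreg a h0 y hy, fun y hy => hreg a h0 y (by rw [mul_comm]; exact hy)⟩
  let := G.toRingHom.toAlgebra
  have : Algebra.IsIntegral (MvPolynomial (Fin s) k ⊗[k] MvPolynomial (Fin t) k) (B₁ ⊗[k] B₂) := by
    refine ⟨fun x => ?_⟩
    induction x using TensorProduct.induction_on with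
    | zero => exact isIntegral_zero
    | add x y hx hy => exact hx.add hy
    | tmul c d =>
      rw [show c ⊗ₜ[k] d = (c ⊗ₜ[k] (1 : B₂)) * ((1 : B₁) ⊗ₜ[k] d) by simp]
      refine IsIntegral.mul ?_ ?_
      · obtain ⟨p, hp, hpe⟩ := (RingHom.IsIntegral.of_finite hf₁) c
        refine ⟨p.map Algebra.TensorProduct.includeLeftRingHom, hp.map _, ?_⟩
        rw [Polynomial.eval₂_map]
        have hc : (algebraMap _ (B₁ ⊗[k] B₂)).comp (Algebra.TensorProduct.includeLeftRingHom
              (R := k) (A := MvPolynomial (Fin s) k) (B := MvPolynomial (Fin t) k)) =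
            (Algebra.TensorProduct.includeLeftRingHom (R := k) (A := B₁) (B := B₂)).comp
              g₁.toRingHom := by
          exact RingHom.ext fun q => by simp [G, RingHom.algebraMap_toAlgebra]
        rw [hc]
        have := congrArg (Algebra.TensorProduct.includeLeftRingHom (R := k) (A := B₁) (B := B₂)) hpe
        rwa [Polynomial.hom_eval₂, map_zero] at this
      · obtain ⟨p, hp, hpe⟩ := (RingHom.IsIntegral.of_finite hf₂) d
        refine ⟨p.map Algebra.TensorProduct.includeRight.toRingHom, hp.map _, ?_⟩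
        rw [Polynomial.eval₂_map]
        have hc : (algebraMap _ (B₁ ⊗[k] B₂)).comp (Algebra.TensorProduct.includeRight
              (R := k) (A := MvPolynomial (Fin s) k) (B := MvPolynomial (Fin t) k)).toRingHom =
            (Algebra.TensorProduct.includeRight (R := k) (A := B₁) (B := B₂)).toRingHom.comp
              g₂.toRingHom := by
          exact RingHom.ext fun q => by simp [G, RingHom.algebraMap_toAlgebra]
        rw [hc]
        have := congrArg (Algebra.TensorProduct.includeRight (R := k) (A := B₁) (B := B₂)).toRingHom hpe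
        rwa [Polynomial.hom_eval₂, map_zero] at this
  set C := MvPolynomial (Fin s) k ⊗[k] MvPolynomial (Fin t) k
  have h1 := Groth.Agent.Lib.Dim.Integral.ringKrullDim_quotient_eq_under (R := C) Q
  have hu : Q.under C = ⊥ := hker
  have e1 : ringKrullDim (C ⧸ Q.under C) = ringKrullDim C :=
    ringKrullDim_eq_of_ringEquiv ((Ideal.quotEquivOfEq hu).trans (RingEquiv.quotientBot _))
  have e2 : ringKrullDim C = ((s + t : ℕ) : WithBot ℕ∞) :=
    (ringKrullDim_eq_of_ringEquiv (MvPolynomial.tensorEquivSum k (Fin s) (Fin t) k).toRingEquiv).trans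
      (by rw [ringKrullDim_mvPolynomial k (Fin s ⊕ Fin t), Nat.card_sum, Nat.card_fin, Nat.card_fin])
  rw [e1, e2, ringKrullDim_quotient_prime k] at h1
  have h2 : dimQ k Q = s + t := by exact_mod_cast h1
  simp [h2, trdegNat, htr₁, htr₂]

/-- A minimal prime over an ideal gives a minimal prime of the quotient of the same dimension. -/
theorem exists_minimalPrimes_quotient {A : Type u} [CommRing A] [Algebra k A]
    [Algebra.FiniteType k A] (I P : Ideal A) (hP : P ∈ I.minimalPrimes) :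
    ∃ Q ∈ minimalPrimes (A ⧸ I), dimQ k Q = dimQ k P := by
  have : P.IsPrime := hP.1.1
  have hkerπ : RingHom.ker (Ideal.Quotient.mk I) ≤ P := by
    rw [Ideal.mk_ker]; exact hP.1.2
  set P₁ := P.map (Ideal.Quotient.mk I) with hP₁
  have hP₁p : P₁.IsPrime := Ideal.map_isPrime_of_surjective Ideal.Quotient.mk_surjective hkerπ
  have hP₁c : P₁.comap (Ideal.Quotient.mk I) = P := by
    rw [hP₁, Ideal.comap_map_of_surjective _ Ideal.Quotient.mk_surjective,
      ← RingHom.ker_eq_comap_bot]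
    exact sup_eq_left.2 hkerπ
  refine ⟨P₁, ⟨⟨hP₁p, bot_le⟩, fun T ⟨hT, _⟩ hTP => ?_⟩, ?_⟩
  · rw [hP₁, Ideal.map_le_iff_le_comap]
    exact hP.2 ⟨hT.comap _, fun x hx => by simp [Ideal.Quotient.eq_zero_iff_mem.2 hx]⟩
      ((Ideal.comap_mono hTP).trans hP₁c.le)
  · have h4 : ringKrullDim ((A ⧸ I) ⧸ P₁) = ringKrullDim (A ⧸ P) :=
      ringKrullDim_eq_of_ringEquiv (DoubleQuot.quotQuotEquivQuotOfLE hP.1.2)
    rw [ringKrullDim_quotient_prime k, ringKrullDim_quotient_prime k] at h4
    exact_mod_cast h4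

/-- Minimal primes of `A / (D)` when all minimal primes of `A` have dimension at least `d`. -/
theorem dimQ_le_of_surjective {A B : Type u} [CommRing A] [Algebra k A] [Algebra.FiniteType k A]
    [CommRing B] [Algebra k B] [Algebra.FiniteType k B] (μ : A →ₐ[k] B)
    (hsurj : Function.Surjective μ) (D : Finset A)
    (hker : RingHom.ker μ.toRingHom = Ideal.span (D : Set A)) (d : ℕ)
    (hd : ∀ P₀ ∈ minimalPrimes A, d ≤ dimQ k P₀) (Q : Ideal B) (hQ : Q ∈ minimalPrimes B) :
    d ≤ dimQ k Q + D.card := by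
  have : Q.IsPrime := hQ.1.1
  set P' := Q.comap μ.toRingHom with hP'
  have hJP' : Ideal.span (D : Set A) ≤ P' := hker.ge.trans (Ideal.ker_le_comap _)
  have hP'p : P'.IsPrime := Ideal.IsPrime.comap _
  obtain ⟨P₀, hP₀, hP₀le⟩ := Ideal.exists_minimalPrimes_le (I := (⊥ : Ideal A)) (J := P') bot_le
  have hP₀p : P₀.IsPrime := hP₀.1.1
  have hmin : P' ∈ (P₀ ⊔ Ideal.span (D : Set A)).minimalPrimes := by
    refine ⟨⟨hP'p, sup_le hP₀le hJP'⟩, fun T ⟨hT, hTJ⟩ hTP => ?_⟩
    have hkT : RingHom.ker μ.toRingHom ≤ T := hker.le.trans (le_sup_right.trans hTJ)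
    have hTmp : (T.map μ.toRingHom).IsPrime := Ideal.map_isPrime_of_surjective hsurj hkT
    have hTc : (T.map μ.toRingHom).comap μ.toRingHom = T := by
      rw [Ideal.comap_map_of_surjective μ.toRingHom hsurj, ← RingHom.ker_eq_comap_bot]
      exact sup_eq_left.2 hkT
    rw [← hTc]
    exact Ideal.comap_mono (hQ.2 ⟨hTmp, bot_le⟩ (Ideal.map_le_iff_le_comap.2 hTP))
  have h1 := (hd P₀ hP₀).trans (dimQ_le_add_of_minimalPrimes (k := k) P₀ P' D hmin)
  have e : dimQ k P' = dimQ k Q := by
    have hk : RingHom.ker ((Ideal.Quotient.mk Q).comp μ.toRingHom) = P' := by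
      rw [← RingHom.comap_ker, Ideal.mk_ker]
    have h4 : ringKrullDim (A ⧸ P') = ringKrullDim (B ⧸ Q) :=
      ringKrullDim_eq_of_ringEquiv ((Ideal.quotEquivOfEq hk.symm).trans
        (RingHom.quotientKerEquivOfSurjective (f := (Ideal.Quotient.mk Q).comp μ.toRingHom)
          (Ideal.Quotient.mk_surjective.comp hsurj)))
    rw [ringKrullDim_quotient_prime k, ringKrullDim_quotient_prime k] at h4
    exact_mod_cast h4
  rwa [e] at h1

/-- The kernel of the multiplication map is the ideal of the diagonal. -/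
theorem ker_le_of_diagonal {N : ℕ} (p q : Ideal (MvPolynomial (Fin N) k)) {A : Type u} [CommRing A]
    [Algebra k A] (μ : A →ₐ[k] MvPolynomial (Fin N) k ⧸ (p ⊔ q))
    (ι₁ ι₂ : MvPolynomial (Fin N) k →ₐ[k] A)
    (hμ₁ : ∀ z, μ (ι₁ z) = Ideal.Quotient.mk (p ⊔ q) z)
    (hμ₂ : ∀ z, μ (ι₂ z) = Ideal.Quotient.mk (p ⊔ q) z)
    (h₁ : ∀ x ∈ p, ι₁ x = 0) (h₂ : ∀ x ∈ q, ι₂ x = 0) (J : Ideal A)
    (hJ : ∀ i, ι₁ (MvPolynomial.X i) - ι₂ (MvPolynomial.X i) ∈ J)
    (hgen : ∀ z : A, z ∈ AddSubmonoid.closure {w | ∃ a b, ι₁ a * ι₂ b = w}) :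
    RingHom.ker μ.toRingHom ≤ J := by
  let πJ := Ideal.Quotient.mkₐ k J
  have heq : πJ.comp ι₁ = πJ.comp ι₂ :=
    MvPolynomial.algHom_ext fun i => Ideal.Quotient.eq.2 (hJ i)
  have hI : ∀ x ∈ p ⊔ q, πJ.comp ι₁ x = 0 := by
    intro x hx
    obtain ⟨a, ha, b, hb, rfl⟩ := Submodule.mem_sup.1 hx
    rw [map_add, show πJ.comp ι₁ b = πJ.comp ι₂ b from DFunLike.congr_fun heq b]
    simp [h₁ a ha, h₂ b hb]
  let ψ := Ideal.Quotient.liftₐ (p ⊔ q) (πJ.comp ι₁) hI
  have hψ : ∀ z, ψ (μ z) = πJ z := by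
    intro z
    induction hgen z using AddSubmonoid.closure_induction with
    | zero => simp
    | add z z' _ _ hz hz' => simp only [map_add, hz, hz']
    | mem w hw =>
      obtain ⟨a, b, rfl⟩ := hw
      rw [map_mul, map_mul, map_mul, hμ₁, hμ₂]
      exact congrArg₂ (· * ·) rfl (DFunLike.congr_fun heq b)
  intro z hz
  have hz' : μ z = 0 := hz
  refine Ideal.Quotient.eq_zero_iff_mem.1 ?_
  show πJ z = 0
  rw [← hψ, hz', map_zero]

/-- The intersection theorem with abstract quotients. -/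
theorem dimQ_add_le_of_quotients {N : ℕ} (B₁ B₂ : Type u) [CommRing B₁] [IsDomain B₁]
    [Algebra k B₁] [Algebra.FiniteType k B₁] [CommRing B₂] [IsDomain B₂] [Algebra k B₂]
    [Algebra.FiniteType k B₂] (π₁ : MvPolynomial (Fin N) k →ₐ[k] B₁)
    (π₂ : MvPolynomial (Fin N) k →ₐ[k] B₂) (h₁ : Function.Surjective π₁) (h₂ : Function.Surjective π₂)
    (p q P : Ideal (MvPolynomial (Fin N) k)) (hp : RingHom.ker π₁.toRingHom = p)
    (hq : RingHom.ker π₂.toRingHom = q) (hP : P ∈ (p ⊔ q).minimalPrimes) :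
    trdegNat k B₁ + trdegNat k B₂ ≤ dimQ k P + N := by
  classical
  have : P.IsPrime := hP.1.1
  have hft := finiteType_tensor (k := k) B₁ B₂
  let mk := Ideal.Quotient.mkₐ k (p ⊔ q)
  have k₁ : ∀ x, π₁ x = 0 → mk x = 0 := fun x hx =>
    Ideal.Quotient.eq_zero_iff_mem.2 (Ideal.mem_sup_left (hp.le hx))
  have k₂ : ∀ x, π₂ x = 0 → mk x = 0 := fun x hx =>
    Ideal.Quotient.eq_zero_iff_mem.2 (Ideal.mem_sup_right (hq.le hx))
  let f₁ : B₁ →ₐ[k] MvPolynomial (Fin N) k ⧸ (p ⊔ q) :=
    (Ideal.Quotient.liftₐ (RingHom.ker π₁) mk k₁).comp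
      (Ideal.quotientKerAlgEquivOfSurjective h₁).symm.toAlgHom
  let f₂ : B₂ →ₐ[k] MvPolynomial (Fin N) k ⧸ (p ⊔ q) :=
    (Ideal.Quotient.liftₐ (RingHom.ker π₂) mk k₂).comp
      (Ideal.quotientKerAlgEquivOfSurjective h₂).symm.toAlgHom
  have hf₁ : ∀ z, f₁ (π₁ z) = Ideal.Quotient.mk (p ⊔ q) z := fun z => by
    show Ideal.Quotient.liftₐ (RingHom.ker π₁) mk k₁
      ((Ideal.quotientKerAlgEquivOfSurjective h₁).symm (π₁ z)) = _
    rw [show (Ideal.quotientKerAlgEquivOfSurjective h₁).symm (π₁ z) = Ideal.Quotient.mk _ z from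
      (AlgEquiv.symm_apply_eq _).2 rfl]
    rfl
  have hf₂ : ∀ z, f₂ (π₂ z) = Ideal.Quotient.mk (p ⊔ q) z := fun z => by
    show Ideal.Quotient.liftₐ (RingHom.ker π₂) mk k₂
      ((Ideal.quotientKerAlgEquivOfSurjective h₂).symm (π₂ z)) = _
    rw [show (Ideal.quotientKerAlgEquivOfSurjective h₂).symm (π₂ z) = Ideal.Quotient.mk _ z from
      (AlgEquiv.symm_apply_eq _).2 rfl]
    rfl
  let μ : B₁ ⊗[k] B₂ →ₐ[k] MvPolynomial (Fin N) k ⧸ (p ⊔ q) :=
    Algebra.TensorProduct.lift f₁ f₂ fun _ _ => Commute.all _ _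
  let ι₁ : MvPolynomial (Fin N) k →ₐ[k] B₁ ⊗[k] B₂ :=
    (Algebra.TensorProduct.includeLeft (R := k) (S := k)).comp π₁
  let ι₂ : MvPolynomial (Fin N) k →ₐ[k] B₁ ⊗[k] B₂ :=
    (Algebra.TensorProduct.includeRight (R := k)).comp π₂
  have hμ₁ : ∀ z, μ (ι₁ z) = Ideal.Quotient.mk (p ⊔ q) z := fun z => by
    simp [μ, ι₁, hf₁]
  have hμ₂ : ∀ z, μ (ι₂ z) = Ideal.Quotient.mk (p ⊔ q) z := fun z => by
    simp [μ, ι₂, hf₂]
  let D : Finset (B₁ ⊗[k] B₂) :=
    Finset.univ.image fun i => ι₁ (MvPolynomial.X i) - ι₂ (MvPolynomial.X i)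
  have hsurj : Function.Surjective μ := fun z => by
    obtain ⟨z, rfl⟩ := Ideal.Quotient.mk_surjective z
    exact ⟨ι₁ z, hμ₁ z⟩
  have hJker : Ideal.span (D : Set (B₁ ⊗[k] B₂)) ≤ RingHom.ker μ.toRingHom := by
    rw [Ideal.span_le]
    intro z hz
    obtain ⟨i, -, rfl⟩ := Finset.mem_image.1 (Finset.mem_coe.1 hz)
    show μ (ι₁ _ - ι₂ _) = 0
    rw [map_sub, hμ₁, hμ₂, sub_self]
  have hkerJ : RingHom.ker μ.toRingHom ≤ Ideal.span (D : Set (B₁ ⊗[k] B₂)) := by
    refine ker_le_of_diagonal p q μ ι₁ ι₂ hμ₁ hμ₂ (fun x hx => ?_) (fun x hx => ?_) _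
      (fun i => Ideal.subset_span (Finset.mem_coe.2 (Finset.mem_image.2
        ⟨i, Finset.mem_univ _, rfl⟩))) fun z => ?_
    · have e : π₁ x = 0 := hp.ge hx
      simp [ι₁, e]
    · have e : π₂ x = 0 := hq.ge hx
      simp [ι₂, e]
    · induction z using TensorProduct.induction_on with
      | zero => exact zero_mem _
      | add z z' hz hz' => exact add_mem hz hz'
      | tmul a b =>
        obtain ⟨a, rfl⟩ := h₁ a
        obtain ⟨b, rfl⟩ := h₂ b
        exact AddSubmonoid.subset_closure ⟨a, b, by simp [ι₁, ι₂]⟩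
  obtain ⟨Q, hQ, hQe⟩ := exists_minimalPrimes_quotient (k := k) (p ⊔ q) P hP
  have key := dimQ_le_of_surjective μ hsurj D (le_antisymm hkerJ hJker)
    (trdegNat k B₁ + trdegNat k B₂) (fun P₀ hP₀ => (dimQ_minimalPrimes_tensor B₁ B₂ P₀ hP₀).ge) Q hQ
  rw [hQe] at key
  have hcard : D.card ≤ N := Finset.card_image_le.trans (by simp)
  omega

/-- The affine intersection theorem: a minimal prime of `p + q` in a polynomial ring in `N`
variables has dimension at least `dim p + dim q - N`. -/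
theorem dimQ_add_le_of_minimalPrimes_sup {N : ℕ} (p q P : Ideal (MvPolynomial (Fin N) k))
    [p.IsPrime] [q.IsPrime] (hP : P ∈ (p ⊔ q).minimalPrimes) :
    dimQ k p + dimQ k q ≤ dimQ k P + N :=
  dimQ_add_le_of_quotients _ _ (Ideal.Quotient.mkₐ k p) (Ideal.Quotient.mkₐ k q)
    Ideal.Quotient.mk_surjective Ideal.Quotient.mk_surjective p q P Ideal.mk_ker Ideal.mk_ker hP

end Groth.Agent.Lib.ProjDim.Tensor
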