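import Groth.Agent.Lib.ProjDim.Topology

/-!
# Cutting closed subsets of projective space by homogeneous equations
-/

set_option autoImplicit false

universe u

namespace Groth.Agent.Lib.ProjDim.Cut

open MvPolynomial Groth.Agent.Lib.Dim.Basic Groth.Agent.Lib.ProjDim.Graded
open Groth.Agent.Lib.ProjDim.Topology AlgebraicGeometry TopologicalSpace

variable {k : Type u} [Field k] {n : ℕ}

local notation "S" => MvPolynomial (Fin (n + 1)) k
local notation "𝒢" => CohB1.polyGrading n k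
local notation "ℙ" => ProjectiveSpectrum (CohB1.polyGrading n k)

theorem finset_span_isHomogeneous (F : Finset S) (hF : ∀ f ∈ F, ∃ d, f.IsHomogeneous d) :
    (Ideal.span (F : Set S)).IsHomogeneous 𝒢 := span_isHomogeneous hF

/-- The points of `closure {x} ∩ V(F)`, for `F` a set of homogeneous elements. -/
theorem mem_inter_iff {x y : ℙ} {F : Set S} :
    (x ⤳ y ∧ y ∈ ProjectiveSpectrum.zeroLocus 𝒢 F) ↔ idl x ⊔ Ideal.span F ≤ idl y := by
  rw [specializes_iff, mem_zeroLocus_iff, sup_le_iff]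

/-- A point minimal in `closure {x} ∩ V(F)` is a minimal prime over `x + (F)`. -/
theorem mem_minimalPrimes_of_minimal {x y : ℙ} {F : Set S} (hF : ∀ f ∈ F, ∃ d, f.IsHomogeneous d)
    (hy : x ⤳ y ∧ y ∈ ProjectiveSpectrum.zeroLocus 𝒢 F)
    (hmin : ∀ z, x ⤳ z → z ∈ ProjectiveSpectrum.zeroLocus 𝒢 F → z ⤳ y → z = y) :
    idl y ∈ (idl x ⊔ Ideal.span F).minimalPrimes := by
  refine ⟨⟨y.isPrime, mem_inter_iff.1 hy⟩, fun P ⟨hP, hle⟩ hPy => ?_⟩
  obtain ⟨Q, hQ, hQP⟩ := Ideal.exists_minimalPrimes_le (J := P) hle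
  have hQp := hQ.1.1
  have hQh := minimalPrimes_isHomogeneous ((idl_hom x).sup (span_isHomogeneous hF)) hQ
  have hd : 1 ≤ dimQ k Q := (one_le_dimQ y).trans (dimQ_anti k (hQP.trans hPy))
  have h := mem_inter_iff (y := mkPt Q hQp hQh hd).2 hQ.1.2
  have he := hmin _ h.1 h.2 (specializes_iff.2 (hQP.trans hPy))
  rw [← he]
  exact hQP

/-- Points minimal in `closure {x} ∩ V(F)` lose at most `#F` dimensions. -/
theorem dp_le_add_card {x y : ℙ} (F : Finset S) (hF : ∀ f ∈ F, ∃ d, f.IsHomogeneous d)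
    (hy : x ⤳ y ∧ y ∈ ProjectiveSpectrum.zeroLocus 𝒢 (F : Set S))
    (hmin : ∀ z, x ⤳ z → z ∈ ProjectiveSpectrum.zeroLocus 𝒢 (F : Set S) → z ⤳ y → z = y) :
    dp x ≤ dp y + F.card := by
  have h := Tensor.dimQ_le_add_of_minimalPrimes (k := k) (idl x) (idl y) F
    (mem_minimalPrimes_of_minimal hF hy hmin)
  have := dp_add_one x
  have := dp_add_one y
  omega

/-- Existence of points on `closure {x} ∩ V(F)`. -/
theorem exists_mem {x : ℙ} (F : Finset S) (hF : ∀ f ∈ F, ∃ d, f.IsHomogeneous d)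
    (hirr : ∀ f ∈ F, f ∈ irr n k) (hcard : F.card ≤ dp x) :
    ∃ y, x ⤳ y ∧ y ∈ ProjectiveSpectrum.zeroLocus 𝒢 (F : Set S) := by
  obtain ⟨P, hP, -⟩ := exists_minimalPrime_le_irr (k := k) (I := idl x ⊔ Ideal.span (F : Set S))
    (sup_le (idl_le_irr x) (Ideal.span_le.2 hirr))
  have hPp := hP.1.1
  have hh := minimalPrimes_isHomogeneous ((idl_hom x).sup (finset_span_isHomogeneous F hF)) hP
  have h := Tensor.dimQ_le_add_of_minimalPrimes (k := k) (idl x) P F hP
  have := dp_add_one x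
  exact ⟨mkPt P hPp hh (by omega), mem_inter_iff.2 hP.1.2⟩

/-- A homogeneous polynomial of degree zero with a zero vanishes. -/
theorem mem_irr_of_mem_zeroLocus {f : S} {y : ℙ}
    (hy : y ∈ ProjectiveSpectrum.zeroLocus 𝒢 ({f} : Set S)) : f ∈ irr n k :=
  idl_le_irr y (mem_zeroLocus_iff.1 hy (Ideal.mem_span_singleton_self f))

/-- The intersection of two irreducible closed subsets. -/
theorem exists_mem_inter {x y : ℙ} (h : n ≤ dp x + dp y) :
    ∃ z, x ⤳ z ∧ y ⤳ z ∧ dp x + dp y ≤ dp z + n := by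
  obtain ⟨P, hP, -⟩ := exists_minimalPrime_le_irr (k := k) (I := idl x ⊔ idl y)
    (sup_le (idl_le_irr x) (idl_le_irr y))
  have hPp := hP.1.1
  have hh := minimalPrimes_isHomogeneous ((idl_hom x).sup (idl_hom y)) hP
  have h1 := Tensor.dimQ_add_le_of_minimalPrimes_sup (k := k) (idl x) (idl y) P hP
  have := dp_add_one x
  have := dp_add_one y
  let z := mkPt P hPp hh (by omega)
  have : dp z + 1 = dimQ k P := dp_add_one z
  refine ⟨z, specializes_iff.2 (le_sup_left.trans hP.1.2),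
    specializes_iff.2 (le_sup_right.trans hP.1.2), ?_⟩
  omega

/-- The set theoretic data of a component of `closure {x} ∩ V(F)`. -/
theorem component_inter {x : ℙ} {X : Set ℙ} (hX : IsGenericPoint x X) (F : Set S)
    {C : Set ↥(X ∩ ProjectiveSpectrum.zeroLocus 𝒢 F)}
    (hC : C ∈ irreducibleComponents ↥(X ∩ ProjectiveSpectrum.zeroLocus 𝒢 F)) :
    ∃ y, (x ⤳ y ∧ y ∈ ProjectiveSpectrum.zeroLocus 𝒢 F) ∧
      (∀ z, x ⤳ z → z ∈ ProjectiveSpectrum.zeroLocus 𝒢 F → z ⤳ y → z = y) ∧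
      topologicalKrullDim ↥C = (dp y : WithBot ℕ∞) := by
  obtain ⟨y, hy, hmin, -, hdim⟩ := component
    (hX.isClosed.inter (ProjectiveSpectrum.isClosed_zeroLocus 𝒢 F)) hC
  exact ⟨y, ⟨hX.specializes hy.1, hy.2⟩,
    fun z hxz hz hzy => hmin z ⟨hxz.mem_closed hX.isClosed hX.mem, hz⟩ hzy, hdim⟩

end Groth.Agent.Lib.ProjDim.Cut
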