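import Groth.Agent.Lib.ProjDim.Graded
import Groth.Agent.Lib.GrpSch.DenseDim
import Mathlib.AlgebraicGeometry.ProjectiveSpectrum.Scheme
import Mathlib.AlgebraicGeometry.Properties

/-!
# Dimensions of closed subsets of projective space via homogeneous primes
-/

set_option autoImplicit false

universe u

namespace Groth.Agent.Lib.ProjDim.Topology

open MvPolynomial Groth.Agent.Lib.Dim.Basic Groth.Agent.Lib.ProjDim.Graded
open AlgebraicGeometry TopologicalSpace _root_.Topology

variable {k : Type u} [Field k] {n : ℕ}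

local notation "S" => MvPolynomial (Fin (n + 1)) k
local notation "𝒢" => CohB1.polyGrading n k
local notation "ℙ" => ProjectiveSpectrum (CohB1.polyGrading n k)

instance quasiSober_projSpectrum : QuasiSober ℙ := inferInstanceAs (QuasiSober ↥(CohB1.ProjSpace n k))

/-- The homogeneous prime of a point. -/
noncomputable abbrev idl (x : ℙ) : Ideal S := x.asHomogeneousIdeal.toIdeal

theorem idl_hom (x : ℙ) : (idl x).IsHomogeneous 𝒢 := x.asHomogeneousIdeal.isHomogeneous

theorem idl_le_irr (x : ℙ) : idl x ≤ irr n k :=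
  le_irr (idl_hom x) x.isPrime.ne_top

theorem mem_irrelevant {f : S} :
    f ∈ (HomogeneousIdeal.irrelevant 𝒢).toIdeal ↔ f ∈ irr n k := by
  show GradedRing.proj 𝒢 0 f = 0 ↔ _
  rw [GradedRing.proj_apply, decompose_apply, homogeneousComponent_zero, C_eq_zero]
  rfl

theorem one_le_dimQ (x : ℙ) : 1 ≤ dimQ k (idl x) := by
  have := irr_isMaximal (n := n) (k := k)
  have hlt : idl x < irr n k := lt_of_le_of_ne (idl_le_irr x) fun e =>
    x.not_irrelevant_le fun f hf => e.ge (mem_irrelevant.1 hf)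
  have := dimQ_lt_of_lt k hlt
  rw [dimQ_irr] at this
  omega

/-- The dimension of the closure of a point. -/
noncomputable def dp (x : ℙ) : ℕ := dimQ k (idl x) - 1

theorem dp_add_one (x : ℙ) : dp x + 1 = dimQ k (idl x) := Nat.sub_add_cancel (one_le_dimQ x)

/-- The point of a homogeneous prime of positive dimension. -/
noncomputable def mkPt (P : Ideal S) (hP : P.IsPrime) (hh : P.IsHomogeneous 𝒢)
    (hd : 1 ≤ dimQ k P) : ℙ where
  asHomogeneousIdeal := ⟨P, hh⟩
  isPrime := hP
  not_irrelevant_le h := by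
    have hle : irr n k ≤ P := fun f hf => h (mem_irrelevant.2 hf)
    have := irr_isMaximal (n := n) (k := k)
    have e := this.eq_of_le hP.ne_top hle
    rw [← e, dimQ_irr] at hd
    omega

theorem idl_mkPt (P : Ideal S) (hP : P.IsPrime) (hh : P.IsHomogeneous 𝒢) (hd : 1 ≤ dimQ k P) :
    idl (mkPt P hP hh hd) = P := rfl

theorem idl_injective {x y : ℙ} (h : idl x = idl y) : x = y :=
  ProjectiveSpectrum.ext (HomogeneousIdeal.toIdeal_injective h)

theorem specializes_iff {x y : ℙ} : x ⤳ y ↔ idl x ≤ idl y := by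
  rw [specializes_iff_mem_closure, ← ProjectiveSpectrum.le_iff_mem_closure]
  rfl

theorem mem_zeroLocus_iff {x : ℙ} {s : Set S} :
    x ∈ ProjectiveSpectrum.zeroLocus 𝒢 s ↔ Ideal.span s ≤ idl x := by
  rw [Ideal.span_le]; rfl

theorem dp_lt {x y : ℙ} (h : x ⤳ y) (hne : x ≠ y) : dp y < dp x := by
  have h1 := dimQ_lt_of_lt k (lt_of_le_of_ne (specializes_iff.1 h) fun e => hne (idl_injective e))
  have := dp_add_one x
  have := dp_add_one y
  omega

theorem dp_le {x y : ℙ} (h : x ⤳ y) : dp y ≤ dp x := by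
  rcases eq_or_ne x y with rfl | hne
  · rfl
  · exact (dp_lt h hne).le

theorem eq_of_dp_le {x y : ℙ} (h : x ⤳ y) (hd : dp x ≤ dp y) : x = y := by
  by_contra hne
  have := dp_lt h hne
  omega

theorem dp_le_n (x : ℙ) : dp x ≤ n := by
  have := dimQ_le (k := k) (idl x)
  have := dp_add_one x
  omega

/-- The same set, seen in the scheme. -/
abbrev toSch (T : Set ℙ) : Set ↥(CohB1.ProjSpace n k) := T

theorem topologicalKrullDim_eq_krullDim (T : Set ℙ) (hT : IsClosed T) :
    topologicalKrullDim ↥T = Order.krullDim {x : ↥(CohB1.ProjSpace n k) // x ∈ toSch T} := by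
  have hT' : IsClosed (toSch T) := hT
  have : QuasiSober ↥(toSch T) := hT'.isClosedEmbedding_subtypeVal.quasiSober
  exact Groth.Agent.Lib.GrpSch.topologicalKrullDim_eq_krullDim_subset (Y := CohB1.ProjSpace n k)
    (toSch T)

theorem mk_lt_mk {T : Set ℙ} {a b : ℙ} (ha : a ∈ T) (hb : b ∈ T) (h : idl b ≤ idl a)
    (h' : ¬ idl a ≤ idl b) :
    (⟨a, ha⟩ : {x : ↥(CohB1.ProjSpace n k) // x ∈ toSch T}) < ⟨b, hb⟩ :=
  lt_iff_le_not_ge.2 ⟨specializes_iff.2 h, fun hh => h' (specializes_iff.1 hh)⟩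

theorem le_dim {T : Set ℙ} (hT : IsClosed T) {x : ℙ} (hx : x ∈ T) :
    (dp x : WithBot ℕ∞) ≤ topologicalKrullDim ↥T := by
  rw [topologicalKrullDim_eq_krullDim T hT]
  have := irr_isMaximal (n := n) (k := k)
  obtain ⟨c, hc0, -, hc, hcs⟩ := exists_chain (k := k) (p := idl x) (q := irr n k) (idl_hom x)
    (span_irr) (idl_le_irr x)
  rw [dimQ_irr, Nat.sub_zero] at hc hcs
  have hlen := dp_add_one x
  let pt : (i : ℕ) → i ≤ dp x → ℙ := fun i hi =>
    mkPt (c i) (hc i (by omega)).1 (hc i (by omega)).2.1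
      (by have := (hc i (by omega)).2.2.2.2; omega)
  have hmem : ∀ i hi, pt i hi ∈ T := fun i hi => by
    refine Specializes.mem_closed ?_ hT hx
    exact specializes_iff.2 ((hc i (by omega)).2.2.1)
  let l : LTSeries {x : ↥(CohB1.ProjSpace n k) // x ∈ toSch T} :=
    { length := dp x
      toFun := fun i => ⟨pt (dp x - i) (Nat.sub_le _ _), hmem _ (Nat.sub_le _ _)⟩
      step := fun i => by
        have h : c (dp x - i.succ) < c (dp x - i.castSucc) := by
          have h := hcs (dp x - (i + 1)) (by omega)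
          rw [show dp x - (i + 1) + 1 = dp x - i by omega] at h
          simpa using h
        exact mk_lt_mk (hmem _ (Nat.sub_le _ _)) (hmem _ (Nat.sub_le _ _)) h.le fun hh => h.not_ge hh }
  exact Order.LTSeries.length_le_krullDim l
where
  span_irr : (irr n k).IsHomogeneous 𝒢 := by
    intro i f hf
    rw [decompose_apply, mem_irr, coeff_homogeneousComponent]
    split
    · exact hf
    · rfl

theorem dim_le_iff {T : Set ℙ} (hT : IsClosed T) (d : WithBot ℕ∞) :
    topologicalKrullDim ↥T ≤ d ↔ ∀ x ∈ T, (dp x : WithBot ℕ∞) ≤ d := by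
  refine ⟨fun h x hx => (le_dim hT hx).trans h, fun h => ?_⟩
  rw [topologicalKrullDim_eq_krullDim T hT]
  refine iSup_le fun l => ?_
  have key : ∀ i : ℕ, (hi : i < l.length + 1) →
      i ≤ dp (k := k) (n := n) ((l ⟨i, hi⟩).1) := by
    intro i
    induction i with
    | zero => intro _; exact Nat.zero_le _
    | succ i ih =>
      intro hi
      have h1 := ih (by omega)
      have hstep : l ⟨i, by omega⟩ < l ⟨i + 1, hi⟩ := l.step ⟨i, by omega⟩
      have h2 : dp (k := k) (n := n) (l ⟨i, by omega⟩).1 < dp (k := k) (n := n) (l ⟨i + 1, hi⟩).1 :=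
        dp_lt (hstep.le) fun e => hstep.ne (Subtype.ext e.symm)
      omega
  refine le_trans ?_ (h _ l.last.2)
  exact_mod_cast key l.length (Nat.lt_succ_self _)

theorem dim_eq {T : Set ℙ} (hT : IsClosed T) {x : ℙ} (hx : x ∈ T) (h : ∀ y ∈ T, dp y ≤ dp x) :
    topologicalKrullDim ↥T = (dp x : WithBot ℕ∞) :=
  le_antisymm ((dim_le_iff hT _).2 fun y hy => by exact_mod_cast h y hy) (le_dim hT hx)

theorem dim_of_isGenericPoint {T : Set ℙ} {x : ℙ} (h : IsGenericPoint x T) :
    topologicalKrullDim ↥T = (dp x : WithBot ℕ∞) :=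
  dim_eq h.isClosed h.mem fun _ hy => dp_le (h.specializes hy)

theorem exists_dim_eq {T : Set ℙ} (hT : IsClosed T) (hne : T.Nonempty) :
    ∃ x ∈ T, topologicalKrullDim ↥T = (dp x : WithBot ℕ∞) := by
  classical
  have hb : BddAbove (dp '' T) := ⟨n, by rintro _ ⟨x, -, rfl⟩; exact dp_le_n x⟩
  obtain ⟨x, hx, hxe⟩ := Nat.sSup_mem (hne.image dp) hb
  exact ⟨x, hx, dim_eq hT hx fun y hy => hxe ▸ le_csSup hb ⟨y, hy, rfl⟩⟩

/-- A component of a closed subset has a generic point, minimal among the points of the subset. -/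
theorem component {T : Set ℙ} (hT : IsClosed T) {C : Set ↥T} (hC : C ∈ irreducibleComponents ↥T) :
    ∃ x ∈ T, (∀ y ∈ T, y ⤳ x → y = x) ∧ (Subtype.val '' C = closure {x}) ∧
      topologicalKrullDim ↥C = (dp x : WithBot ℕ∞) := by
  have hCc : IsClosed C := isClosed_of_mem_irreducibleComponents C hC
  have hemb := hT.isClosedEmbedding_subtypeVal
  have hirr : IsIrreducible (Subtype.val '' C) := hC.1.image _ continuous_subtype_val.continuousOn
  have hcl : IsClosed (Subtype.val '' C) := hemb.isClosedMap _ hCc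
  obtain ⟨x, hx⟩ := QuasiSober.sober hirr hcl
  have hxC := hx.mem
  obtain ⟨x', hx'C, hxx'⟩ := hxC
  have hxT : x ∈ T := hxx' ▸ x'.2
  refine ⟨x, hxT, fun y hy hyx => ?_, hx.def.symm, ?_⟩
  · have hsub : C ⊆ closure {(⟨y, hy⟩ : ↥T)} := fun z hz => by
      rw [← specializes_iff_mem_closure, ← IsInducing.subtypeVal.specializes_iff]
      exact hyx.trans (hx.specializes ⟨z, hz, rfl⟩)
    have hyC : (⟨y, hy⟩ : ↥T) ∈ C :=
      hC.2 isIrreducible_singleton.closure hsub (subset_closure rfl)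
    exact idl_injective (le_antisymm (specializes_iff.1 hyx) (specializes_iff.1 (hx.specializes ⟨_, hyC, rfl⟩)))
  · rw [← dim_of_isGenericPoint hx]
    exact ((hemb.isEmbedding.comp IsEmbedding.subtypeVal).toHomeomorph.trans
      (Homeomorph.setCongr (by rw [Set.range_comp, Subtype.range_val]))).isHomeomorph.topologicalKrullDim_eq _

/-- Every point of a closed subset is a specialisation of one minimal among its points. -/
theorem exists_minimal {T : Set ℙ} {x : ℙ} (hx : x ∈ T) :
    ∃ y ∈ T, y ⤳ x ∧ ∀ z ∈ T, z ⤳ y → z = y := by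
  classical
  let A : Set ℕ := dp '' {y | y ∈ T ∧ y ⤳ x}
  have hne : A.Nonempty := ⟨_, x, ⟨hx, specializes_rfl⟩, rfl⟩
  have hb : BddAbove A := ⟨n, by rintro _ ⟨x, -, rfl⟩; exact dp_le_n x⟩
  obtain ⟨y, ⟨hy, hyx⟩, he⟩ := Nat.sSup_mem hne hb
  refine ⟨y, hy, hyx, fun z hz hzy => eq_of_dp_le hzy ?_⟩
  rw [he]
  exact le_csSup hb ⟨z, ⟨hz, hzy.trans hyx⟩, rfl⟩

end Groth.Agent.Lib.ProjDim.Topology
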