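import Groth.Agent.Lib.ProjDim.Cut

/-!
# Homogeneous prime avoidance and covering complements by hypersurface complements
-/

set_option autoImplicit false

universe u

namespace Groth.Agent.Lib.ProjDim.Avoid

open MvPolynomial Groth.Agent.Lib.Dim.Basic Groth.Agent.Lib.ProjDim.Graded
open Groth.Agent.Lib.ProjDim.Topology AlgebraicGeometry TopologicalSpace

variable {k : Type u} [Field k] {n : ℕ}

local notation "S" => MvPolynomial (Fin (n + 1)) k
local notation "𝒢" => CohB1.polyGrading n k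
local notation "ℙ" => ProjectiveSpectrum (CohB1.polyGrading n k)

theorem exists_X_not_mem (x : ℙ) : ∃ i, (X i : S) ∉ idl x := by
  by_contra! h
  refine x.not_irrelevant_le fun f hf => ?_
  have hf' : coeff 0 f = 0 := mem_irr.1 (mem_irrelevant.1 hf)
  rw [f.as_sum]
  refine Ideal.sum_mem _ fun m hm => ?_
  have hm0 : m ≠ 0 := fun e => mem_support_iff.1 hm (e ▸ hf')
  obtain ⟨i, hi⟩ := Finsupp.support_nonempty_iff.2 hm0
  exact Ideal.mem_of_dvd _ ((X_dvd_monomial).2 (Or.inr (Finsupp.mem_support_iff.1 hi))) (h i)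

/-- Homogeneous prime avoidance. -/
theorem exists_avoid (I : Ideal S) (hI : I.IsHomogeneous 𝒢) (T : Finset ℙ)
    (hT : ∀ x ∈ T, ¬ I ≤ idl x) :
    ∃ e, 0 < e ∧ ∃ f : S, f.IsHomogeneous e ∧ f ∈ I ∧ ∀ x ∈ T, f ∉ idl x := by
  classical
  let M := T.filter fun x => ∀ y ∈ T, idl x ≤ idl y → y = x
  have hM : ∀ x ∈ T, ∃ m ∈ M, idl x ≤ idl m := by
    intro x hx
    obtain ⟨m, hm, hmin⟩ := (T.filter fun y => idl x ≤ idl y).exists_min_image dp
      ⟨x, Finset.mem_filter.2 ⟨hx, le_rfl⟩⟩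
    obtain ⟨hmT, hxm⟩ := Finset.mem_filter.1 hm
    refine ⟨m, Finset.mem_filter.2 ⟨hmT, fun y hy hmy => ?_⟩, hxm⟩
    exact (eq_of_dp_le (Groth.Agent.Lib.ProjDim.Topology.specializes_iff.2 hmy)
      (hmin y (Finset.mem_filter.2 ⟨hy, hxm.trans hmy⟩))).symm
  have hsel : ∀ x ∈ M, ∃ e, 0 < e ∧ ∃ c : S, c.IsHomogeneous e ∧ c ∈ I ∧ c ∉ idl x ∧
      ∀ y ∈ M, y ≠ x → c ∈ idl y := by
    intro x hx
    obtain ⟨hxT, -⟩ := Finset.mem_filter.1 hx
    obtain ⟨d, a, ha, haI, hax⟩ := exists_homogeneous_not_mem hI (hT x hxT)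
    obtain ⟨i, hi⟩ := exists_X_not_mem x
    have hb : ∀ y ∈ M.erase x, ∃ e, ∃ b : S, b.IsHomogeneous e ∧ b ∈ idl y ∧ b ∉ idl x := by
      intro y hy
      obtain ⟨hne, hyM⟩ := Finset.mem_erase.1 hy
      refine exists_homogeneous_not_mem (idl_hom y) fun hle => hne ?_
      exact ((Finset.mem_filter.1 hyM).2 x hxT hle).symm
    choose eb b hb hby hbx using hb
    refine ⟨d + 1 + ∑ y ∈ (M.erase x).attach, eb y.1 y.2, by omega,
      a * X i * ∏ y ∈ (M.erase x).attach, b y.1 y.2, ?_, ?_, ?_, ?_⟩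
    · exact (ha.mul (isHomogeneous_X k i)).mul (IsHomogeneous.prod _ _ _ fun y _ => hb y.1 y.2)
    · exact I.mul_mem_right _ (I.mul_mem_right _ haI)
    · have hp : (idl x).IsPrime := x.isPrime
      intro h
      rcases hp.mem_or_mem h with h | h
      · exact (hp.mem_or_mem h).elim hax hi
      · obtain ⟨y, -, hy⟩ := (hp.prod_mem_iff).1 h
        exact hbx y.1 y.2 hy
    · intro y hy hne
      refine (idl y).mul_mem_left _ (Ideal.prod_mem (idl y) (Finset.mem_attach _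
        ⟨y, Finset.mem_erase.2 ⟨hne, hy⟩⟩) (hby _ _))
  choose e he c hc hcI hcx hcy using hsel
  let D := ∏ x ∈ M.attach, e x.1 x.2
  have hD : 0 < D := Finset.prod_pos fun x _ => he x.1 x.2
  have hdvd : ∀ x : {x // x ∈ M}, e x.1 x.2 * (D / e x.1 x.2) = D := fun x =>
    Nat.mul_div_cancel' (Finset.dvd_prod_of_mem (fun x : {x // x ∈ M} => e x.1 x.2)
      (Finset.mem_attach _ x))
  have hq : ∀ x : {x // x ∈ M}, 0 < D / e x.1 x.2 := fun x =>
    Nat.div_pos (Nat.le_of_dvd hD (Finset.dvd_prod_of_mem (fun x : {x // x ∈ M} => e x.1 x.2)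
      (Finset.mem_attach _ x))) (he x.1 x.2)
  refine ⟨D, hD, ∑ x ∈ M.attach, (c x.1 x.2) ^ (D / e x.1 x.2), ?_, ?_, fun x hx hmem => ?_⟩
  · refine IsHomogeneous.sum _ _ _ fun x _ => ?_
    have h := (hc x.1 x.2).pow (D / e x.1 x.2)
    rwa [hdvd x] at h
  · exact Ideal.sum_mem _ fun x _ => Ideal.pow_mem_of_mem _ (hcI x.1 x.2) _ (hq x)
  · obtain ⟨m, hm, hxm⟩ := hM x hx
    have hp : (idl m).IsPrime := m.isPrime
    have hmem' := hxm hmem
    rw [← Finset.add_sum_erase _ _ (Finset.mem_attach M ⟨m, hm⟩)] at hmem'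
    refine hcx m hm (hp.mem_of_pow_mem _ ((Ideal.add_mem_iff_left _ ?_).1 hmem'))
    refine Ideal.sum_mem _ fun y hy => Ideal.pow_mem_of_mem _ (hcy y.1 y.2 m hm fun he => ?_) _ (hq y)
    exact (Finset.mem_erase.1 hy).1 (Subtype.ext he.symm)

/-- The minimal points of a closed subset form a finite set. -/
theorem finite_minimal {T : Set ℙ} (hT : IsClosed T) :
    {y ∈ T | ∀ z ∈ T, z ⤳ y → z = y}.Finite := by
  obtain ⟨s, rfl⟩ := (ProjectiveSpectrum.isClosed_iff_zeroLocus 𝒢 T).1 hT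
  set I := (ProjectiveSpectrum.vanishingIdeal (ProjectiveSpectrum.zeroLocus 𝒢 s)).toIdeal with hI
  have hV : ∀ z : ℙ, z ∈ ProjectiveSpectrum.zeroLocus 𝒢 s ↔ I ≤ idl z := fun z => by
    refine ⟨fun h f hf => ?_, fun h f hf => h ?_⟩
    · exact (ProjectiveSpectrum.mem_vanishingIdeal _ f).1 hf z h
    · exact (ProjectiveSpectrum.mem_vanishingIdeal _ f).2 fun w hw => hw hf
  refine Set.Finite.of_finite_image (f := idl) ?_ fun a _ b _ h => idl_injective h
  refine (I.finite_minimalPrimes_of_isNoetherianRing (R := S)).subset ?_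
  rintro _ ⟨y, ⟨hy, hmin⟩, rfl⟩
  refine ⟨⟨y.isPrime, (hV y).1 hy⟩, fun P ⟨hP, hle⟩ hPy => ?_⟩
  obtain ⟨Q, hQ, hQP⟩ := Ideal.exists_minimalPrimes_le (J := P) hle
  have hQp := hQ.1.1
  have hQh := minimalPrimes_isHomogeneous
    (ProjectiveSpectrum.vanishingIdeal (ProjectiveSpectrum.zeroLocus 𝒢 s)).isHomogeneous hQ
  have hd : 1 ≤ dimQ k Q := (one_le_dimQ y).trans (dimQ_anti k (hQP.trans hPy))
  have he := hmin (mkPt Q hQp hQh hd) ((hV _).2 hQ.1.2)
    (Groth.Agent.Lib.ProjDim.Topology.specializes_iff.2 (hQP.trans hPy))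
  rw [← he]
  exact hQP

/-- `r + 1` hypersurfaces through `Y` suffice to cover `X \ Y` when `dim X ≤ r`. -/
theorem exists_cover {X Y : Set ℙ} (hX : IsClosed X) (hY : IsClosed Y) (r : ℕ)
    (hdim : ∀ x ∈ X, dp x ≤ r) :
    ∃ h : Fin (r + 1) → S, (∀ j, ∃ d : ℕ, 0 < d ∧ (h j).IsHomogeneous d) ∧
      (∀ j, ∀ y ∈ Y, h j ∈ idl y) ∧ ∀ x ∈ X, x ∉ Y → ∃ j, h j ∉ idl x := by
  classical
  set I := ProjectiveSpectrum.vanishingIdeal Y with hI
  have hYV : ∀ z, z ∈ Y ↔ I.toIdeal ≤ idl z := fun z => by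
    refine ⟨fun h f hf => (ProjectiveSpectrum.mem_vanishingIdeal _ f).1 hf z h, fun h => ?_⟩
    rw [← hY.closure_eq, ← ProjectiveSpectrum.zeroLocus_vanishingIdeal_eq_closure]
    exact h
  have key : ∀ m : ℕ, ∃ h : Fin m → S, (∀ j, ∃ d : ℕ, 0 < d ∧ (h j).IsHomogeneous d) ∧
      (∀ j, ∀ y ∈ Y, h j ∈ idl y) ∧ ∀ x ∈ X, x ∉ Y → (∀ j, h j ∈ idl x) → dp x + m ≤ r := by
    intro m
    induction m with
    | zero => exact ⟨Fin.elim0, fun j => j.elim0, fun j => j.elim0, fun x hx _ _ => hdim x hx⟩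
    | succ m ih =>
      obtain ⟨h, hh, hhY, hstep⟩ := ih
      let T := X ∩ ProjectiveSpectrum.zeroLocus 𝒢 (Set.range h)
      have hT : IsClosed T := hX.inter (ProjectiveSpectrum.isClosed_zeroLocus _ _)
      let A := (finite_minimal hT).toFinset.filter (· ∉ Y)
      obtain ⟨e, he, f, hf, hfI, hfA⟩ := exists_avoid I.toIdeal I.isHomogeneous A
        fun a ha hle => (Finset.mem_filter.1 ha).2 ((hYV a).2 hle)
      refine ⟨Fin.snoc h f, Fin.lastCases ?l1 ?c1, Fin.lastCases ?l2 ?c2, fun x hx hxY hxh => ?cov⟩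
      case l1 => rw [Fin.snoc_last]; exact ⟨e, he, hf⟩
      case c1 => intro i; rw [Fin.snoc_castSucc]; exact hh i
      case l2 => intro y hy; rw [Fin.snoc_last]; exact (hYV y).1 hy hfI
      case c2 => intro i; rw [Fin.snoc_castSucc]; exact hhY i
      case cov =>
        have hxT : x ∈ T := ⟨hx, by
          rintro _ ⟨i, rfl⟩
          have := hxh i.castSucc
          rwa [Fin.snoc_castSucc] at this⟩
        obtain ⟨y, hyT, hyx, hymin⟩ := exists_minimal hxT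
        have hyY : y ∉ Y := fun h' => hxY (hyx.mem_closed hY h')
        have hfy : f ∉ idl y := hfA y (Finset.mem_filter.2
          ⟨(finite_minimal hT).mem_toFinset.2 ⟨hyT, hymin⟩, hyY⟩)
        have hfx : f ∈ idl x := by
          have := hxh (Fin.last m)
          rwa [Fin.snoc_last] at this
        have hlt : dp x < dp y := dp_lt hyx fun e => hfy (e ▸ hfx)
        have := hstep y hyT.1 hyY fun i => hyT.2 ⟨i, rfl⟩
        omega
  obtain ⟨h, hh, hhY, hcov⟩ := key (r + 1)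
  refine ⟨h, hh, hhY, fun x hx hxY => ?_⟩
  by_contra! hc
  have := hcov x hx hxY hc
  omega

end Groth.Agent.Lib.ProjDim.Avoid
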